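import Groth.Agent.W4c3.K880.Flags

/-!
# Exactness of the complex of permutation modules on parabolic subgroups
-/

set_option autoImplicit false

open Matrix W4c3dlvarstrsh K880.Flags

namespace K880.ParCx

variable {F : Type*} [Field F] {R : Type*} [CommRing R] {m r : ℕ}

/-- Extension of a family to all subsets by zero. -/
def ex {c : ℕ} (f : Cochain F R (m := m) r c) (T : Finset (Fin r)) (x : GL (Fin (m + 1)) F) : R :=
  if h : T.card = c then f ⟨T, h⟩ x else 0

theorem ex_eq {c : ℕ} (f : Cochain F R (m := m) r c) (T : {T : Finset (Fin r) // T.card = c})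
    (x : GL (Fin (m + 1)) F) : ex f T.1 x = f T x := by
  rw [ex, dif_pos T.2]

theorem delta_eq {c : ℕ} (f : Cochain F R (m := m) r (c + 1)) (T : {T : Finset (Fin r) // T.card = c})
    (x : GL (Fin (m + 1)) F) :
    delta c f T x = ∑ a : Fin r, if a ∉ T.1 then (sgn T.1 a : R) * ex f (insert a T.1) x else 0 := by
  unfold delta
  refine Finset.sum_congr rfl fun a _ => ?_
  by_cases h : a ∉ T.1
  · rw [dif_pos h, if_pos h, ex, dif_pos]
  · rw [dif_neg h, if_neg h]

theorem sgn_insert_of_lt {T : Finset (Fin r)} {a b : Fin r} (ha : a ∉ T) (h : a < b) :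
    sgn (insert a T) b = - sgn T b := by
  unfold sgn
  rw [Finset.filter_insert, if_pos h, Finset.card_insert_of_notMem, pow_succ, mul_neg_one]
  intro h'
  exact ha (Finset.mem_filter.1 h').1

theorem sgn_insert_of_not_lt {T : Finset (Fin r)} {a b : Fin r} (h : ¬ a < b) :
    sgn (insert a T) b = sgn T b := by
  unfold sgn
  rw [Finset.filter_insert, if_neg h]

theorem sgn_mul {T : Finset (Fin r)} {a b : Fin r} (ha : a ∉ T) (hb : b ∉ T) (hab : a ≠ b) :
    sgn T a * sgn (insert a T) b = - (sgn T b * sgn (insert b T) a) := by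
  rcases lt_or_gt_of_ne hab with h | h
  · rw [sgn_insert_of_lt ha h, sgn_insert_of_not_lt (not_lt.mpr h.le)]
    ring
  · rw [sgn_insert_of_lt hb h, sgn_insert_of_not_lt (not_lt.mpr h.le)]
    ring

theorem delta_delta {c : ℕ} (g : Cochain F R (m := m) r (c + 2)) : delta c (delta (c + 1) g) = 0 := by
  funext T x
  rw [delta_eq]
  have h1 : ∀ a : Fin r, (if a ∉ T.1 then (sgn T.1 a : R) * ex (delta (c + 1) g) (insert a T.1) x else 0) =
      ∑ b : Fin r, if a ∉ T.1 ∧ b ∉ T.1 ∧ a ≠ b then
        ((sgn T.1 a * sgn (insert a T.1) b : ℤ) : R) * ex g (insert b (insert a T.1)) x else 0 := by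
    intro a
    by_cases ha : a ∉ T.1
    · have hc : (insert a T.1).card = c + 1 := by rw [Finset.card_insert_of_notMem ha, T.2]
      rw [if_pos ha, ex, dif_pos hc, delta_eq, Finset.mul_sum]
      refine Finset.sum_congr rfl fun b _ => ?_
      by_cases hb : b ∉ insert a T.1
      · have hb' : a ∉ T.1 ∧ b ∉ T.1 ∧ a ≠ b := by
          rw [Finset.mem_insert] at hb
          push Not at hb
          exact ⟨ha, hb.2, fun h => hb.1 h.symm⟩
        rw [if_pos hb, if_pos hb', Int.cast_mul]
        ring
      · have hb' : ¬ (a ∉ T.1 ∧ b ∉ T.1 ∧ a ≠ b) := by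
          rintro ⟨-, h2, h3⟩
          apply hb
          rw [Finset.mem_insert]
          push Not
          exact ⟨fun h => h3 h.symm, h2⟩
        rw [if_neg hb, if_neg hb', mul_zero]
    · rw [if_neg ha]
      symm
      apply Finset.sum_eq_zero
      intro b _
      rw [if_neg]
      rintro ⟨h, -⟩
      exact ha h
  simp only [h1]
  rw [← Finset.sum_product']
  apply Finset.sum_involution (fun p _ => p.swap)
  · rintro ⟨a, b⟩ -
    simp only [Prod.swap]
    by_cases h : a ∉ T.1 ∧ b ∉ T.1 ∧ a ≠ b
    · have h' : b ∉ T.1 ∧ a ∉ T.1 ∧ b ≠ a := ⟨h.2.1, h.1, h.2.2.symm⟩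
      rw [if_pos h, if_pos h', sgn_mul h.1 h.2.1 h.2.2, Finset.insert_comm b a]
      push_cast
      ring
    · have h' : ¬ (b ∉ T.1 ∧ a ∉ T.1 ∧ b ≠ a) := fun h' => h ⟨h'.2.1, h'.1, h'.2.2.symm⟩
      rw [if_neg h, if_neg h', add_zero]
  · rintro ⟨a, b⟩ - hne heq
    apply hne
    have hab : b = a := congrArg Prod.fst heq
    rw [if_neg]
    rintro ⟨-, -, h⟩
    exact h hab.symm
  · rintro ⟨a, b⟩ -
    rfl
  · rintro ⟨a, b⟩ -
    rw [Finset.mem_product]
    exact ⟨Finset.mem_univ _, Finset.mem_univ _⟩

theorem delta_add {c : ℕ} (f g : Cochain F R (m := m) r (c + 1)) :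
    delta c (f + g) = delta c f + delta c g := by
  funext T x
  rw [Pi.add_apply, Pi.add_apply]
  unfold delta
  rw [← Finset.sum_add_distrib]
  refine Finset.sum_congr rfl fun a _ => ?_
  by_cases h : a ∉ T.1
  · rw [dif_pos h, dif_pos h, dif_pos h, Pi.add_apply, Pi.add_apply, mul_add]
  · rw [dif_neg h, dif_neg h, dif_neg h, add_zero]

theorem delta_sub {c : ℕ} (f g : Cochain F R (m := m) r (c + 1)) :
    delta c (f - g) = delta c f - delta c g := by
  have h := delta_add (f - g) g
  rw [sub_add_cancel] at h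
  rw [h, add_sub_cancel_right]

theorem delta_zero {c : ℕ} : delta c (0 : Cochain F R (m := m) r (c + 1)) = 0 := by
  have h := delta_add (0 : Cochain F R (m := m) r (c + 1)) 0
  rw [add_zero] at h
  simpa using h

variable {ω : Fin r ↪ Fin m}

theorem ex_mul {c : ℕ} {f : Cochain F R (m := m) r c} (hf : IsInduced ω f) (T : Finset (Fin r))
    (x : GL (Fin (m + 1)) F) {p : GL (Fin (m + 1)) F} (hp : p ∈ parabolic F (T.map ω)) :
    ex f T (x * p) = ex f T x := by
  unfold ex
  split_ifs with h
  · exact hf ⟨T, h⟩ x p hp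
  · rfl

theorem isInduced_delta {c : ℕ} {f : Cochain F R (m := m) r (c + 1)} (hf : IsInduced ω f) :
    IsInduced ω (delta c f) := by
  intro T x p hp
  rw [delta_eq, delta_eq]
  refine Finset.sum_congr rfl fun a _ => ?_
  rw [ex_mul hf]
  exact parabolic_mono (Finset.map_subset_map.2 (Finset.subset_insert _ _)) hp

theorem isInduced_sub {c : ℕ} {f g : Cochain F R (m := m) r c} (hf : IsInduced ω f) (hg : IsInduced ω g) :
    IsInduced ω (f - g) := by
  intro T x p hp
  rw [Pi.sub_apply, Pi.sub_apply, Pi.sub_apply, hf T x p hp, hg T x p hp]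

theorem isInduced_add {c : ℕ} {f g : Cochain F R (m := m) r c} (hf : IsInduced ω f) (hg : IsInduced ω g) :
    IsInduced ω (f + g) := by
  intro T x p hp
  rw [Pi.add_apply, Pi.add_apply, Pi.add_apply, hf T x p hp, hg T x p hp]

open Classical in
/-- The letters at which `y` ascends. -/
noncomputable def Sig (ω : Fin r ↪ Fin m) (y : GL (Fin (m + 1)) F) : Finset (Fin r) :=
  Finset.univ.filter fun a => Asc y (ω a).val

theorem mem_Sig {y : GL (Fin (m + 1)) F} {a : Fin r} : a ∈ Sig ω y ↔ Asc y (ω a).val := by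
  classical
  rw [Sig, Finset.mem_filter]
  exact ⟨fun h => h.2, fun h => ⟨Finset.mem_univ _, h⟩⟩

theorem Sig_mul_borel (y : GL (Fin (m + 1)) F) {p : GL (Fin (m + 1)) F}
    (hp : p ∈ parabolic F (∅ : Finset (Fin m))) : Sig ω (y * p) = Sig ω y := by
  ext a
  rw [mem_Sig, mem_Sig, asc_mul_borel y hp]

/-- The contraction. -/
noncomputable def val {c : ℕ} (ω : Fin r ↪ Fin m) (f : Cochain F R (m := m) r (c + 1)) (T : Finset (Fin r))
    (y : GL (Fin (m + 1)) F) : R :=
  if h : (Sig ω y).Nonempty then
    (if (Sig ω y).min' h ∈ T then -(ex f (T.erase ((Sig ω y).min' h)) y) else 0) else 0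

theorem val_mul_borel {c : ℕ} {f : Cochain F R (m := m) r (c + 1)} (hf : IsInduced ω f) (T : Finset (Fin r))
    (y : GL (Fin (m + 1)) F) {p : GL (Fin (m + 1)) F} (hp : p ∈ parabolic F (∅ : Finset (Fin m))) :
    val ω f T (y * p) = val ω f T y := by
  unfold val
  simp only [Sig_mul_borel y hp]
  simp only [ex_mul hf _ y (parabolic_mono (Finset.empty_subset _) hp)]

/-- `y` is the top element of its `T`-coset. -/
def Top (ω : Fin r ↪ Fin m) (T : Finset (Fin r)) (y : GL (Fin (m + 1)) F) : Prop := ∀ a ∈ T, Asc y (ω a).val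

theorem Top.asc {T : Finset (Fin r)} {y : GL (Fin (m + 1)) F} (h : Top ω T y) :
    ∀ k ∈ T.map ω, Asc y k.val := by
  intro k hk
  rw [Finset.mem_map] at hk
  obtain ⟨a, ha, rfl⟩ := hk
  exact h a ha

open Classical in
/-- The correction term. -/
noncomputable def cor {c : ℕ} (ω : Fin r ↪ Fin m) (f : Cochain F R (m := m) r (c + 1)) (n : ℕ) :
    Cochain F R (m := m) r (c + 2) := fun T x =>
  if h : ∃ p, p ∈ parabolic F (T.1.map ω) ∧ mu (x * p) = n ∧ Top ω T.1 (x * p) then
    val ω f T.1 (x * h.choose) else 0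

theorem cor_eq {c : ℕ} {f : Cochain F R (m := m) r (c + 1)} (hf : IsInduced ω f) (n : ℕ)
    (T : {T : Finset (Fin r) // T.card = c + 2}) (x p : GL (Fin (m + 1)) F)
    (hp : p ∈ parabolic F (T.1.map ω)) (hn : mu (x * p) = n) (ht : Top ω T.1 (x * p)) :
    cor ω f n T x = val ω f T.1 (x * p) := by
  have h : ∃ p, p ∈ parabolic F (T.1.map ω) ∧ mu (x * p) = n ∧ Top ω T.1 (x * p) := ⟨p, hp, hn, ht⟩
  unfold cor
  rw [dif_pos h]
  obtain ⟨h1, h2, h3⟩ := h.choose_spec
  have h4 : x * h.choose = (x * p) * (p⁻¹ * h.choose) := by group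
  have h5 : p⁻¹ * h.choose ∈ parabolic F (T.1.map ω) := mul_mem (inv_mem hp) h1
  have h6 := mem_borel ht.asc h5 (by rw [← h4, h2, hn])
  rw [h4, val_mul_borel hf _ _ h6]

theorem isInduced_cor {c : ℕ} {f : Cochain F R (m := m) r (c + 1)} (hf : IsInduced ω f) (n : ℕ) :
    IsInduced ω (cor ω f n) := by
  intro T x q hq
  by_cases h : ∃ p, p ∈ parabolic F (T.1.map ω) ∧ mu (x * p) = n ∧ Top ω T.1 (x * p)
  · obtain ⟨p, hp, hn, ht⟩ := h
    have h4 : x * p = (x * q) * (q⁻¹ * p) := by group
    rw [cor_eq hf n T x p hp hn ht, cor_eq hf n T (x * q) (q⁻¹ * p) (mul_mem (inv_mem hq) hp)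
      (by rw [← h4, hn]) (by rw [← h4]; exact ht), ← h4]
  · have h' : ¬ ∃ p, p ∈ parabolic F (T.1.map ω) ∧ mu ((x * q) * p) = n ∧ Top ω T.1 ((x * q) * p) := by
      rintro ⟨p, hp, hn, ht⟩
      exact h ⟨q * p, mul_mem hq hp, by rw [← mul_assoc]; exact hn, by rw [← mul_assoc]; exact ht⟩
    unfold cor
    rw [dif_neg h, dif_neg h']

/-- The correction term above level `n`. -/
theorem cor_of_gt {c : ℕ} (f : Cochain F R (m := m) r (c + 1)) (n : ℕ)
    (T : {T : Finset (Fin r) // T.card = c + 2}) (x : GL (Fin (m + 1)) F) (hx : n < mu x) :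
    cor ω f n T x = 0 := by
  unfold cor
  rw [dif_neg]
  rintro ⟨p, hp, hn, ht⟩
  have h1 := mu_le ht.asc (inv_mem hp)
  rw [mul_inv_cancel_right, hn] at h1
  omega

/-- The correction term at level `n`. -/
theorem cor_of_eq {c : ℕ} {f : Cochain F R (m := m) r (c + 1)} (hf : IsInduced ω f) (n : ℕ)
    (T : {T : Finset (Fin r) // T.card = c + 2}) (x : GL (Fin (m + 1)) F) (hx : mu x = n) :
    (Top ω T.1 x → cor ω f n T x = val ω f T.1 x) ∧ (¬ Top ω T.1 x → cor ω f n T x = 0) := by
  constructor
  · intro ht
    have h := cor_eq hf n T x 1 (one_mem _) (by rw [mul_one, hx]) (by rw [mul_one]; exact ht)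
    rwa [mul_one] at h
  · intro ht
    unfold cor
    rw [dif_neg]
    rintro ⟨p, hp, hn, ht'⟩
    have h1 := mem_borel ht'.asc (inv_mem hp) (by rw [mul_inv_cancel_right, hx, hn])
    apply ht
    intro a ha
    have h2 := ht' a ha
    rw [← asc_mul_borel (x * p) h1, mul_inv_cancel_right] at h2
    exact h2

/-- Vanishing of an induced family at non-top elements. -/
theorem eq_zero_of_not_top {c n : ℕ} {f : Cochain F R (m := m) r (c + 1)} (hf : IsInduced ω f)
    (hv : ∀ T x, n < mu x → f T x = 0) (T : Finset (Fin r)) (x : GL (Fin (m + 1)) F) (hx : n ≤ mu x)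
    (ht : ¬ Top ω T x) : ex f T x = 0 := by
  unfold Top at ht
  push Not at ht
  obtain ⟨a, ha, hasc⟩ := ht
  obtain ⟨p, hp, hlt⟩ := exists_gt_of_not_asc x (ω a) hasc
  rw [← ex_mul hf T x (hp _ (Finset.mem_map_of_mem ω ha))]
  unfold ex
  split_ifs
  · exact hv _ _ (by omega)
  · rfl

theorem sgn_min {T : Finset (Fin r)} {b : Fin r} (h : ∀ t ∈ T, b ≤ t) : sgn T b = -1 := by
  unfold sgn
  have h1 : T.filter (fun t => t < b) = ∅ := by
    rw [Finset.filter_eq_empty_iff]
    intro t ht
    exact not_lt.mpr (h t ht)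
  rw [h1, Finset.card_empty, zero_add, pow_one]

/-- The key identity: the correction term corrects `f` at level `n`. -/
theorem delta_cor {c n : ℕ} {f : Cochain F R (m := m) r (c + 1)} (hf : IsInduced ω f) (hd : delta c f = 0)
    (hv : ∀ T x, n < mu x → f T x = 0) (T : {T : Finset (Fin r) // T.card = c + 1})
    (x : GL (Fin (m + 1)) F) (hx : n ≤ mu x) : delta (c + 1) (cor ω f n) T x = f T x := by
  have hcor : ∀ a, a ∉ T.1 → ∃ h : (insert a T.1).card = c + 2,
      ex (cor ω f n) (insert a T.1) x = cor ω f n ⟨insert a T.1, h⟩ x := by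
    intro a ha
    have hc : (insert a T.1).card = c + 2 := by rw [Finset.card_insert_of_notMem ha, T.2]
    exact ⟨hc, by rw [ex, dif_pos hc]⟩
  rcases hx.lt_or_eq with hlt | heq
  · rw [hv T x hlt, delta_eq]
    apply Finset.sum_eq_zero
    intro a _
    by_cases ha : a ∉ T.1
    · obtain ⟨h, h'⟩ := hcor a ha
      rw [if_pos ha, h', cor_of_gt f n _ x hlt, mul_zero]
    · rw [if_neg ha]
  · by_cases ht : Top ω T.1 x
    swap
    · rw [← ex_eq f T x, eq_zero_of_not_top hf hv T.1 x hx ht, delta_eq]
      apply Finset.sum_eq_zero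
      intro a _
      by_cases ha : a ∉ T.1
      · obtain ⟨h, h'⟩ := hcor a ha
        rw [if_pos ha, h', (cor_of_eq hf n _ x heq.symm).2 (fun h2 => ht fun b hb => h2 b (Finset.mem_insert_of_mem hb)),
          mul_zero]
      · rw [if_neg ha]
    · have hTS : T.1 ⊆ Sig ω x := fun a ha => mem_Sig.2 (ht a ha)
      have hTne : T.1.Nonempty := by
        rw [← Finset.card_pos, T.2]
        omega
      have hne : (Sig ω x).Nonempty := hTne.mono hTS
      set b := (Sig ω x).min' hne with hb
      have hbS : b ∈ Sig ω x := Finset.min'_mem _ _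
      have hbmin : ∀ t ∈ Sig ω x, b ≤ t := fun t ht => Finset.min'_le _ _ ht
      have hval : ∀ T' : Finset (Fin r), val ω f T' x = if b ∈ T' then -(ex f (T'.erase b) x) else 0 := by
        intro T'
        unfold val
        rw [dif_pos hne]
      -- the terms of the differential of the correction
      have hterm : ∀ a, a ∉ T.1 → ex (cor ω f n) (insert a T.1) x =
          if a ∈ Sig ω x then (if b ∈ insert a T.1 then -(ex f ((insert a T.1).erase b) x) else 0) else 0 := by
        intro a ha
        obtain ⟨h, h'⟩ := hcor a ha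
        rw [h']
        by_cases haS : a ∈ Sig ω x
        · rw [if_pos haS, (cor_of_eq hf n _ x heq.symm).1, hval]
          intro t ht'
          rw [Finset.mem_insert] at ht'
          rcases ht' with rfl | ht'
          · exact mem_Sig.1 haS
          · exact ht t ht'
        · rw [if_neg haS, (cor_of_eq hf n _ x heq.symm).2]
          intro h2
          exact haS (mem_Sig.2 (h2 a (Finset.mem_insert_self _ _)))
      rw [delta_eq]
      by_cases hbT : b ∈ T.1
      · -- use the cocycle condition at `T.erase b`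
        have hcard : (T.1.erase b).card = c := by
          rw [Finset.card_erase_of_mem hbT, T.2]
          rfl
        have h0 := congrFun (congrFun hd ⟨T.1.erase b, hcard⟩) x
        rw [delta_eq] at h0
        change (∑ a : Fin r, if a ∉ T.1.erase b then (sgn (T.1.erase b) a : R) *
          ex f (insert a (T.1.erase b)) x else 0) = 0 at h0
        -- separate the term `b`
        rw [← Finset.add_sum_erase _ _ (Finset.mem_univ b), if_pos (Finset.notMem_erase b T.1),
          Finset.insert_erase hbT, sgn_min (fun t ht' => hbmin t (hTS (Finset.mem_of_mem_erase ht'))), ex_eq] at h0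
        rw [← Finset.add_sum_erase _ _ (Finset.mem_univ b), if_neg (by simpa using hbT), zero_add]
        have h1 : ∀ a ∈ Finset.univ.erase b,
            (if a ∉ T.1 then (sgn T.1 a : R) * ex (cor ω f n) (insert a T.1) x else 0) =
            (if a ∉ T.1.erase b then (sgn (T.1.erase b) a : R) * ex f (insert a (T.1.erase b)) x else 0) := by
          intro a ha
          have hab : a ≠ b := Finset.ne_of_mem_erase ha
          by_cases haT : a ∉ T.1
          · have haT' : a ∉ T.1.erase b := fun h => haT (Finset.mem_of_mem_erase h)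
            rw [if_pos haT, if_pos haT', hterm a haT]
            by_cases haS : a ∈ Sig ω x
            · rw [if_pos haS, if_pos (Finset.mem_insert_of_mem hbT)]
              have hlt : b < a := lt_of_le_of_ne (hbmin a haS) hab.symm
              have hs : sgn T.1 a = - sgn (T.1.erase b) a := by
                conv_lhs => rw [← Finset.insert_erase hbT]
                exact sgn_insert_of_lt (Finset.notMem_erase b T.1) hlt
              have he : (insert a T.1).erase b = insert a (T.1.erase b) := by
                rw [Finset.erase_insert_of_ne hab]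
              rw [hs, he]
              push_cast
              ring
            · rw [if_neg haS, mul_zero]
              rw [eq_zero_of_not_top hf hv _ x hx, mul_zero]
              intro h2
              exact haS (mem_Sig.2 (h2 a (Finset.mem_insert_self _ _)))
          · have haT' : ¬ a ∉ T.1.erase b := by
              push Not at haT ⊢
              exact Finset.mem_erase.2 ⟨hab, haT⟩
            rw [if_neg haT, if_neg haT']
        rw [Finset.sum_congr rfl h1]
        have h2 : (((-1 : ℤ) : R)) * f T x = - f T x := by push_cast; ring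
        rw [h2] at h0
        exact (neg_add_eq_zero.1 h0).symm
      · rw [Finset.sum_eq_single b]
        · rw [if_pos hbT, hterm b hbT, if_pos hbS, if_pos (Finset.mem_insert_self _ _),
            Finset.erase_insert hbT, sgn_min (fun t ht' => hbmin t (hTS ht')), ex_eq]
          push_cast
          ring
        · intro a _ hab
          by_cases haT : a ∉ T.1
          · rw [if_pos haT, hterm a haT]
            have hb' : b ∉ insert a T.1 := by
              rw [Finset.mem_insert]
              push Not
              exact ⟨fun h => hab h.symm, hbT⟩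
            rw [if_neg hb', ite_self, mul_zero]
          · rw [if_neg haT]
        · intro h
          exact absurd (Finset.mem_univ b) h

theorem exactness {c : ℕ} : ∀ (n : ℕ) (f : Cochain F R (m := m) r (c + 1)), IsInduced ω f → delta c f = 0 →
    (∀ T x, n ≤ mu x → f T x = 0) →
    ∃ g : Cochain F R (m := m) r (c + 2), IsInduced ω g ∧ delta (c + 1) g = f := by
  intro n
  induction n with
  | zero =>
    intro f _ _ hv
    have h0 : f = 0 := by
      funext T x
      exact hv T x (Nat.zero_le _)
    refine ⟨0, fun T g p _ => rfl, ?_⟩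
    rw [delta_zero, h0]
  | succ n ih =>
    intro f hf hd hv
    obtain ⟨g, hg, hg'⟩ := ih (f - delta (c + 1) (cor ω f n))
      (isInduced_sub hf (isInduced_delta (isInduced_cor hf n)))
      (by rw [delta_sub, hd, delta_delta, sub_zero])
      (fun T x hx => by
        rw [Pi.sub_apply, Pi.sub_apply, delta_cor hf hd (fun T x h => hv T x h) T x hx, sub_self])
    exact ⟨g + cor ω f n, isInduced_add hg (isInduced_cor hf n), by rw [delta_add, hg', sub_add_cancel]⟩

end K880.ParCx
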