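import Groth.Prelude.Def_W4c3dlvarstrshPar
import Mathlib.LinearAlgebra.Matrix.ToLin
import Mathlib.LinearAlgebra.FiniteDimensional.Lemmas
import Mathlib.Algebra.BigOperators.Intervals

/-!
# Relative position of a flag and the standard flag, and minimal elements of parabolic cosets

For `g ∈ GL_{m+1}(F)`: `V g i` is the span of the first `i` columns, `r g i j = dim (V g i ∩ E_j)`, `mu g` the sum of
all `r g i j`, and `Asc g k` means that `r` is concave in the first variable at `k + 1`.

* `exists_gt_of_not_asc`: if `Asc g k` fails then `mu` is larger somewhere in `g P_k`;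
* `mu_le`, `mem_borel`: if `Asc g k` for all `k ∈ J` then `mu` is maximal at `g` on `g P_J`, and only on `g B`.
-/

set_option autoImplicit false

open Matrix W4c3dlvarstrsh Module

namespace K880.Flags

variable {F : Type*} [Field F] {m : ℕ}

/-- The standard flag. -/
def Est (F : Type*) [Field F] (m i : ℕ) : Submodule F (Fin (m + 1) → F) where
  carrier := {v | ∀ k : Fin (m + 1), i ≤ k.val → v k = 0}
  add_mem' := fun ha hb k hk => by rw [Pi.add_apply, ha k hk, hb k hk, add_zero]
  zero_mem' := fun _ _ => rfl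
  smul_mem' := fun c v hv k hk => by rw [Pi.smul_apply, hv k hk, smul_zero]

theorem mem_Est {i : ℕ} {v : Fin (m + 1) → F} : v ∈ Est F m i ↔ ∀ k : Fin (m + 1), i ≤ k.val → v k = 0 :=
  Iff.rfl

theorem Est_mono {i j : ℕ} (h : i ≤ j) : Est F m i ≤ Est F m j := fun _ hv k hk => hv k (h.trans hk)

theorem Est_zero : Est F m 0 = ⊥ := by
  rw [eq_bot_iff]
  intro v hv
  rw [Submodule.mem_bot]
  funext k
  exact hv k (Nat.zero_le _)

theorem Est_top {i : ℕ} (h : m + 1 ≤ i) : Est F m i = ⊤ := by
  rw [eq_top_iff]
  intro v _ k hk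
  exact absurd k.2 (by omega)

theorem single_mem_Est {i : ℕ} (k : Fin (m + 1)) (h : k.val < i) (c : F) : Pi.single k c ∈ Est F m i := by
  intro l hl
  rw [Pi.single_eq_of_ne]
  rintro rfl
  omega

theorem finrank_Est_succ {i : ℕ} (h : i ≤ m) : finrank F (Est F m (i + 1)) = finrank F (Est F m i) + 1 := by
  let k : Fin (m + 1) := ⟨i, by omega⟩
  have h1 : Est F m (i + 1) = Est F m i ⊔ Submodule.span F {Pi.single k (1 : F)} := by
    apply le_antisymm
    · intro v hv
      rw [Submodule.mem_sup]
      refine ⟨v - v k • Pi.single k 1, ?_, v k • Pi.single k 1, Submodule.smul_mem _ _ (Submodule.mem_span_singleton_self _), by abel⟩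
      intro l hl
      rw [Pi.sub_apply, Pi.smul_apply]
      by_cases hlk : l = k
      · subst hlk
        simp
      · rw [Pi.single_eq_of_ne hlk, smul_zero, sub_zero]
        apply hv
        have : l.val ≠ i := fun h' => hlk (Fin.ext h')
        omega
    · apply sup_le (Est_mono (Nat.le_succ i))
      rw [Submodule.span_singleton_le_iff_mem]
      exact single_mem_Est k (Nat.lt_succ_self i) 1
  have h2 : Est F m i ⊓ Submodule.span F {Pi.single k (1 : F)} = ⊥ := by
    rw [eq_bot_iff]
    rintro v ⟨hv1, hv2⟩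
    rw [SetLike.mem_coe, Submodule.mem_span_singleton] at hv2
    obtain ⟨a, rfl⟩ := hv2
    have h3 := hv1 k (le_refl i)
    rw [Pi.smul_apply, Pi.single_eq_same, smul_eq_mul, mul_one] at h3
    rw [h3, zero_smul]
    exact Submodule.zero_mem _
  have h3 := Submodule.finrank_sup_add_finrank_inf_eq (Est F m i) (Submodule.span F {Pi.single k (1 : F)})
  rw [← h1, h2, finrank_bot, add_zero, finrank_span_singleton] at h3
  · exact h3
  · intro h
    have := congrFun h k
    rw [Pi.single_eq_same] at this
    exact one_ne_zero this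

theorem finrank_Est_succ_le (i : ℕ) : finrank F (Est F m (i + 1)) ≤ finrank F (Est F m i) + 1 := by
  by_cases h : i ≤ m
  · exact (finrank_Est_succ h).le
  · rw [Est_top (i := i) (by omega), Est_top (i := i + 1) (by omega)]
    omega

/-- The linear automorphism of a matrix. -/
noncomputable def act (g : GL (Fin (m + 1)) F) : (Fin (m + 1) → F) →ₗ[F] (Fin (m + 1) → F) :=
  Matrix.mulVecLin (g : Matrix (Fin (m + 1)) (Fin (m + 1)) F)

theorem act_mul (g h : GL (Fin (m + 1)) F) : act (g * h) = act g ∘ₗ act h := by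
  rw [act, Units.val_mul, Matrix.mulVecLin_mul]
  rfl

theorem act_one : act (1 : GL (Fin (m + 1)) F) = LinearMap.id := by
  rw [act, Units.val_one, Matrix.mulVecLin_one]

theorem act_injective (g : GL (Fin (m + 1)) F) : Function.Injective (act g) := by
  have h : act g⁻¹ ∘ₗ act g = LinearMap.id := by rw [← act_mul, inv_mul_cancel, act_one]
  exact Function.LeftInverse.injective (g := act g⁻¹) (fun v => LinearMap.congr_fun h v)

/-- The flag of a matrix. -/
noncomputable def V (g : GL (Fin (m + 1)) F) (i : ℕ) : Submodule F (Fin (m + 1) → F) :=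
  (Est F m i).map (act g)

theorem V_mono (g : GL (Fin (m + 1)) F) {i j : ℕ} (h : i ≤ j) : V g i ≤ V g j :=
  Submodule.map_mono (Est_mono h)

theorem finrank_V (g : GL (Fin (m + 1)) F) (i : ℕ) : finrank F (V g i) = finrank F (Est F m i) :=
  (LinearEquiv.finrank_eq (Submodule.equivMapOfInjective (act g) (act_injective g) (Est F m i))).symm

theorem finrank_V_succ_le (g : GL (Fin (m + 1)) F) (i : ℕ) :
    finrank F (V g (i + 1)) ≤ finrank F (V g i) + 1 := by
  rw [finrank_V, finrank_V]
  exact finrank_Est_succ_le i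

theorem V_mul (g h : GL (Fin (m + 1)) F) (i : ℕ) : V (g * h) i = (V h i).map (act g) := by
  rw [V, act_mul, Submodule.map_comp]
  rfl

theorem V_top (g : GL (Fin (m + 1)) F) {i : ℕ} (h : m + 1 ≤ i) : V g i = ⊤ := by
  apply Submodule.eq_top_of_finrank_eq
  rw [finrank_V, Est_top h, finrank_top]

theorem V_zero (g : GL (Fin (m + 1)) F) : V g 0 = ⊥ := by
  rw [V, Est_zero, Submodule.map_bot]

/-- The relative position. -/
noncomputable def r (g : GL (Fin (m + 1)) F) (i j : ℕ) : ℕ := finrank F ↥(V g i ⊓ Est F m j)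

theorem finrank_inf_le {A B : Submodule F (Fin (m + 1) → F)} (hAB : A ≤ B) (h : finrank F B ≤ finrank F A + 1)
    (U : Submodule F (Fin (m + 1) → F)) : finrank F ↥(B ⊓ U) ≤ finrank F ↥(A ⊓ U) + 1 := by
  have h1 := Submodule.finrank_sup_add_finrank_inf_eq (B ⊓ U) A
  have h2 : finrank F ↥((B ⊓ U) ⊔ A) ≤ finrank F B := Submodule.finrank_mono (sup_le inf_le_left hAB)
  have h3 : (B ⊓ U) ⊓ A = A ⊓ U := by
    rw [inf_right_comm, inf_eq_right.mpr hAB]
  rw [h3] at h1
  omega

theorem r_mono_left (g : GL (Fin (m + 1)) F) {i i' : ℕ} (h : i ≤ i') (j : ℕ) : r g i j ≤ r g i' j :=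
  Submodule.finrank_mono (inf_le_inf_right _ (V_mono g h))

theorem r_mono_right (g : GL (Fin (m + 1)) F) (i : ℕ) {j j' : ℕ} (h : j ≤ j') : r g i j ≤ r g i j' :=
  Submodule.finrank_mono (inf_le_inf_left _ (Est_mono h))

theorem r_succ_left (g : GL (Fin (m + 1)) F) (i j : ℕ) : r g (i + 1) j ≤ r g i j + 1 :=
  finrank_inf_le (V_mono g (Nat.le_succ i)) (finrank_V_succ_le g i) _

theorem r_succ_right (g : GL (Fin (m + 1)) F) (i j : ℕ) : r g i (j + 1) ≤ r g i j + 1 := by
  unfold r
  rw [inf_comm (V g i), inf_comm (V g i)]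
  exact finrank_inf_le (Est_mono (Nat.le_succ j)) (finrank_Est_succ_le j) _

/-- The sum of the relative positions. -/
noncomputable def mu (g : GL (Fin (m + 1)) F) : ℕ :=
  ∑ i ∈ Finset.range (m + 2), ∑ j ∈ Finset.range (m + 2), r g i j

/-- Concavity at `k + 1`. -/
def Asc (g : GL (Fin (m + 1)) F) (k : ℕ) : Prop :=
  ∀ j, j ≤ m + 1 → r g (k + 2) j + r g k j ≤ 2 * r g (k + 1) j

theorem mu_bounded : ∃ N, ∀ g : GL (Fin (m + 1)) F, mu g < N := by
  refine ⟨(∑ _i ∈ Finset.range (m + 2), ∑ _j ∈ Finset.range (m + 2), finrank F (Fin (m + 1) → F)) + 1, fun g => ?_⟩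
  apply Nat.lt_succ_of_le
  exact Finset.sum_le_sum fun i _ => Finset.sum_le_sum fun j _ => Submodule.finrank_le _

section Comb

variable {h u : ℕ → ℕ} {J : Finset (Fin m)}

/-- A position is free if its simple reflection is in `J`. -/
def Free (J : Finset (Fin m)) (p : ℕ) : Prop := ∃ k ∈ J, p = k.val + 1

theorem comb1 (hmono : ∀ i, h i ≤ h (i + 1)) (umono : ∀ i, u i ≤ u (i + 1))
    (hJ : ∀ k ∈ J, h (k.val + 2) + h k.val ≤ 2 * h (k.val + 1)) (hcut : ∀ p, ¬ Free J p → u p = h p) :
    ∀ d i, m ≤ i + d → h (i + 1) = h i → u i ≤ h i := by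
  intro d
  induction d with
  | zero =>
    intro i hi he
    have h1 : ¬ Free J (i + 1) := by
      rintro ⟨k, -, hk⟩
      have := k.2
      omega
    have h2 := hcut _ h1
    have h3 := umono i
    omega
  | succ d ih =>
    intro i hi he
    by_cases h1 : Free J (i + 1)
    · obtain ⟨k, hk, hk'⟩ := h1
      have h4 := hJ k hk
      obtain rfl : i = k.val := by omega
      have h5 := hmono (k.val + 1)
      have h6 := ih (k.val + 1) (by omega) (by
        change h (k.val + 2) = h (k.val + 1)
        have h7 : h (k.val + 1 + 1) = h (k.val + 2) := rfl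
        omega)
      have h3 := umono k.val
      omega
    · have h2 := hcut _ h1
      have h3 := umono i
      omega

theorem comb2 (h1 : ∀ i, h (i + 1) ≤ h i + 1) (u1 : ∀ i, u (i + 1) ≤ u i + 1)
    (hJ : ∀ k ∈ J, h (k.val + 2) + h k.val ≤ 2 * h (k.val + 1)) (hcut : ∀ p, ¬ Free J p → u p = h p) :
    ∀ i, h (i + 1) = h i + 1 → u (i + 1) ≤ h (i + 1) := by
  intro i
  induction i with
  | zero =>
    intro he
    have h2 : ¬ Free J 0 := by
      rintro ⟨k, -, hk⟩
      omega
    have h3 := hcut _ h2
    have h4 := u1 0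
    omega
  | succ i ih =>
    intro he
    by_cases h2 : Free J (i + 1)
    · obtain ⟨k, hk, hk'⟩ := h2
      obtain rfl : i = k.val := by omega
      have h4 := hJ k hk
      have h5 := h1 k.val
      have h7 : h (k.val + 1 + 1) = h (k.val + 2) := rfl
      have h6 := ih (by omega)
      have h8 := u1 (k.val + 1)
      omega
    · have h3 := hcut _ h2
      have h4 := u1 (i + 1)
      omega

theorem comb3 (hmono : ∀ i, h i ≤ h (i + 1)) (h1 : ∀ i, h (i + 1) ≤ h i + 1) (umono : ∀ i, u i ≤ u (i + 1))
    (u1 : ∀ i, u (i + 1) ≤ u i + 1)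
    (hJ : ∀ k ∈ J, h (k.val + 2) + h k.val ≤ 2 * h (k.val + 1)) (hcut : ∀ p, ¬ Free J p → u p = h p) (i : ℕ) :
    u i ≤ h i := by
  rcases i with _ | i
  · have h2 : ¬ Free J 0 := by
      rintro ⟨k, -, hk⟩
      omega
    exact (hcut _ h2).le
  · have h3 := hmono i
    have h4 := h1 i
    by_cases h5 : h (i + 1) = h i
    · by_cases h2 : Free J (i + 1)
      · obtain ⟨k, hk, hk'⟩ := h2
        obtain rfl : i = k.val := by omega
        have h6 := hJ k hk
        have h7 := hmono (k.val + 1)
        have h8 : h (k.val + 1 + 1) = h (k.val + 2) := rfl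
        exact comb1 hmono umono hJ hcut m (k.val + 1) (by omega) (by omega)
      · exact (hcut _ h2).le
    · exact comb2 h1 u1 hJ hcut i (by omega)

end Comb

section Para

theorem mem_parabolic {J : Finset (Fin m)} {g : GL (Fin (m + 1)) F} :
    g ∈ parabolic F J ↔ ∀ i j : Fin (m + 1), blockOf J j < blockOf J i →
      (g : Matrix (Fin (m + 1)) (Fin (m + 1)) F) i j = 0 := Iff.rfl

theorem blockOf_mono (J : Finset (Fin m)) {i j : Fin (m + 1)} (h : i ≤ j) : blockOf J i ≤ blockOf J j := by
  apply Finset.card_le_card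
  intro k hk
  rw [Finset.mem_filter] at hk ⊢
  exact ⟨hk.1, lt_of_lt_of_le hk.2.1 h, hk.2.2⟩

theorem parabolic_mono {J J' : Finset (Fin m)} (h : J ⊆ J') : parabolic F J ≤ parabolic F J' := by
  intro g hg
  rw [mem_parabolic] at hg ⊢
  intro i j hij
  apply hg
  -- there is a cut of `J'` between `j` and `i`
  by_contra hcon
  push Not at hcon
  have hji : j < i := by
    by_contra h1
    push Not at h1
    exact absurd (blockOf_mono J' h1) (not_le.mpr hij)
  have hsub : (Finset.univ.filter fun k : Fin m => k.val < i.val ∧ k ∉ J') ⊆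
      (Finset.univ.filter fun k : Fin m => k.val < j.val ∧ k ∉ J') := by
    intro k hk
    rw [Finset.mem_filter] at hk ⊢
    refine ⟨hk.1, ?_, hk.2.2⟩
    have hkJ : k ∉ J := fun h' => hk.2.2 (h h')
    by_contra h2
    have h3 : (Finset.univ.filter fun k : Fin m => k.val < j.val ∧ k ∉ J) ⊂
        (Finset.univ.filter fun k : Fin m => k.val < i.val ∧ k ∉ J) := by
      rw [Finset.ssubset_iff_of_subset]
      · refine ⟨k, ?_, ?_⟩
        · rw [Finset.mem_filter]
          exact ⟨Finset.mem_univ _, hk.2.1, hkJ⟩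
        · rw [Finset.mem_filter]
          rintro ⟨-, h4, -⟩
          exact h2 h4
      · intro l hl
        rw [Finset.mem_filter] at hl ⊢
        exact ⟨hl.1, lt_trans hl.2.1 hji, hl.2.2⟩
    exact absurd (Finset.card_lt_card h3) (not_lt.mpr hcon)
  exact absurd (Finset.card_le_card hsub) (not_le.mpr hij)

theorem act_apply_single (g : GL (Fin (m + 1)) F) (i j : Fin (m + 1)) :
    act g (Pi.single j 1) i = (g : Matrix (Fin (m + 1)) (Fin (m + 1)) F) i j := by
  rw [act, Matrix.mulVecLin_apply, Matrix.mulVec_single_one]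
  rfl

/-- Parabolic matrices preserve the members of the standard flag at the cuts. -/
theorem act_mem_Est {J : Finset (Fin m)} {p : GL (Fin (m + 1)) F} (hp : p ∈ parabolic F J) {i : ℕ}
    (hi : ¬ Free J i) {v : Fin (m + 1) → F} (hv : v ∈ Est F m i) : act p v ∈ Est F m i := by
  rcases i with _ | i
  · rw [Est_zero, Submodule.mem_bot] at hv ⊢
    rw [hv, map_zero]
  by_cases him : m + 1 ≤ i + 1
  · rw [Est_top him]
    trivial
  rw [mem_parabolic] at hp
  intro k hk
  rw [act, Matrix.mulVecLin_apply, Matrix.mulVec, dotProduct]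
  apply Finset.sum_eq_zero
  intro l _
  by_cases hl : i + 1 ≤ l.val
  · rw [hv l hl, mul_zero]
  · rw [hp k l, zero_mul]
    let c : Fin m := ⟨i, by omega⟩
    have hc : c ∉ J := fun h => hi ⟨c, h, rfl⟩
    apply Finset.card_lt_card
    rw [Finset.ssubset_iff_of_subset]
    · refine ⟨c, ?_, ?_⟩
      · rw [Finset.mem_filter]
        exact ⟨Finset.mem_univ _, by change i < k.val; omega, hc⟩
      · rw [Finset.mem_filter]
        rintro ⟨-, h4, -⟩
        change i < l.val at h4
        omega
    · intro t ht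
      rw [Finset.mem_filter] at ht ⊢
      exact ⟨ht.1, by omega, ht.2.2⟩

theorem map_Est {J : Finset (Fin m)} {p : GL (Fin (m + 1)) F} (hp : p ∈ parabolic F J) {i : ℕ}
    (hi : ¬ Free J i) : V p i = Est F m i := by
  apply Submodule.eq_of_le_of_finrank_eq
  · rintro _ ⟨v, hv, rfl⟩
    exact act_mem_Est hp hi hv
  · exact finrank_V p i

theorem V_mul_parabolic {J : Finset (Fin m)} (g : GL (Fin (m + 1)) F) {p : GL (Fin (m + 1)) F}
    (hp : p ∈ parabolic F J) {i : ℕ} (hi : ¬ Free J i) : V (g * p) i = V g i := by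
  rw [V_mul, map_Est hp hi]
  rfl

/-- A matrix preserving the standard flag is in the Borel subgroup. -/
theorem mem_borel_of_V {p : GL (Fin (m + 1)) F} (h : ∀ i, i ≤ m + 1 → V p i = Est F m i) :
    p ∈ parabolic F (∅ : Finset (Fin m)) := by
  rw [mem_parabolic]
  intro i j hij
  have hji : j < i := by
    by_contra h1
    push Not at h1
    exact absurd (blockOf_mono ∅ h1) (not_le.mpr hij)
  have h1 : act p (Pi.single j 1) ∈ Est F m (j.val + 1) := by
    rw [← h (j.val + 1) (by omega)]
    exact ⟨_, single_mem_Est j (Nat.lt_succ_self _) 1, rfl⟩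
  rw [← act_apply_single]
  exact h1 i hji

theorem mem_borel_of_V_eq {x y : GL (Fin (m + 1)) F} (h : ∀ i, i ≤ m + 1 → V x i = V y i) :
    x⁻¹ * y ∈ parabolic F (∅ : Finset (Fin m)) := by
  apply mem_borel_of_V
  intro i hi
  rw [V_mul, ← h i hi, ← V_mul, inv_mul_cancel, V, act_one, Submodule.map_id]

end Para

section Main

theorem r_mul_parabolic {J : Finset (Fin m)} (g : GL (Fin (m + 1)) F) {p : GL (Fin (m + 1)) F}
    (hp : p ∈ parabolic F J) {i : ℕ} (hi : ¬ Free J i) (j : ℕ) : r (g * p) i j = r g i j := by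
  rw [r, V_mul_parabolic g hp hi]
  rfl

theorem not_free_empty (i : ℕ) : ¬ Free (∅ : Finset (Fin m)) i := by
  rintro ⟨k, hk, -⟩
  exact absurd hk (Finset.notMem_empty k)

theorem r_mul_borel (g : GL (Fin (m + 1)) F) {p : GL (Fin (m + 1)) F}
    (hp : p ∈ parabolic F (∅ : Finset (Fin m))) (i j : ℕ) : r (g * p) i j = r g i j :=
  r_mul_parabolic g hp (not_free_empty i) j

theorem mu_mul_borel (g : GL (Fin (m + 1)) F) {p : GL (Fin (m + 1)) F}
    (hp : p ∈ parabolic F (∅ : Finset (Fin m))) : mu (g * p) = mu g := by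
  unfold mu
  simp only [r_mul_borel g hp]

theorem asc_mul_borel (g : GL (Fin (m + 1)) F) {p : GL (Fin (m + 1)) F}
    (hp : p ∈ parabolic F (∅ : Finset (Fin m))) (k : ℕ) : Asc (g * p) k ↔ Asc g k := by
  unfold Asc
  simp only [r_mul_borel g hp]

variable {J : Finset (Fin m)} {x p : GL (Fin (m + 1)) F}

theorem r_le (hx : ∀ k ∈ J, Asc x k.val) (hp : p ∈ parabolic F J) (i j : ℕ) (hj : j ≤ m + 1) :
    r (x * p) i j ≤ r x i j :=
  comb3 (h := fun i => r x i j) (u := fun i => r (x * p) i j) (J := J)
    (fun i => r_mono_left x (Nat.le_succ i) j) (fun i => r_succ_left x i j)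
    (fun i => r_mono_left _ (Nat.le_succ i) j) (fun i => r_succ_left _ i j)
    (fun k hk => hx k hk j hj) (fun _ hq => r_mul_parabolic x hp hq j) i

/-- Ascents at all letters of `J` imply maximality on `x P_J`. -/
theorem mu_le (hx : ∀ k ∈ J, Asc x k.val) (hp : p ∈ parabolic F J) : mu (x * p) ≤ mu x :=
  Finset.sum_le_sum fun i _ => Finset.sum_le_sum fun j hj =>
    r_le hx hp i j (by rw [Finset.mem_range] at hj; omega)

theorem r_eq_of_mu_eq (hx : ∀ k ∈ J, Asc x k.val) (hp : p ∈ parabolic F J) (h : mu (x * p) = mu x)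
    (i j : ℕ) (hi : i ≤ m + 1) (hj : j ≤ m + 1) : r (x * p) i j = r x i j := by
  have h1 := (Finset.sum_eq_sum_iff_of_le (fun i _ => Finset.sum_le_sum fun j hj =>
    r_le hx hp i j (by rw [Finset.mem_range] at hj; omega))).1 h i (Finset.mem_range.2 (by omega))
  exact (Finset.sum_eq_sum_iff_of_le (fun j hj =>
    r_le hx hp i j (by rw [Finset.mem_range] at hj; omega))).1 h1 j (Finset.mem_range.2 (by omega))

theorem uniq1 (hx : ∀ k ∈ J, Asc x k.val) (hp : p ∈ parabolic F J)
    (hr : ∀ i j, i ≤ m + 1 → j ≤ m + 1 → r (x * p) i j = r x i j) (j : ℕ) (hj : j ≤ m + 1) :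
    ∀ d i, m ≤ i + d → i + 1 ≤ m + 1 → r x (i + 1) j = r x i j →
      V (x * p) i ⊓ Est F m j = V x i ⊓ Est F m j := by
  have hfin : ∀ (g : GL (Fin (m + 1)) F) (i : ℕ), r g (i + 1) j = r g i j →
      V g i ⊓ Est F m j = V g (i + 1) ⊓ Est F m j := fun g i h =>
    Submodule.eq_of_le_of_finrank_eq (inf_le_inf_right _ (V_mono g (Nat.le_succ i))) h.symm
  intro d
  induction d with
  | zero =>
    intro i hi hi' he
    have h1 : ¬ Free J (i + 1) := by
      rintro ⟨k, -, hk⟩
      have := k.2
      omega
    rw [hfin x i he, hfin (x * p) i (by rw [hr _ _ hi' hj, hr _ _ (by omega) hj, he]),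
      V_mul_parabolic x hp h1]
  | succ d ih =>
    intro i hi hi' he
    rw [hfin x i he, hfin (x * p) i (by rw [hr _ _ hi' hj, hr _ _ (by omega) hj, he])]
    by_cases h1 : Free J (i + 1)
    · obtain ⟨k, hk, hk'⟩ := h1
      obtain rfl : i = k.val := by omega
      have h4 := hx k hk j hj
      have h5 := r_mono_left x (Nat.le_succ (k.val + 1)) j
      have h7 : r x (k.val + 1 + 1) j = r x (k.val + 2) j := rfl
      have h8 := k.2
      simp only [Nat.succ_eq_add_one] at h5
      exact ih (k.val + 1) (by omega) (by omega) (by omega)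
    · rw [V_mul_parabolic x hp h1]

theorem finrank_Est {i : ℕ} (h : i ≤ m + 1) : finrank F (Est F m i) = i := by
  induction i with
  | zero => rw [Est_zero, finrank_bot]
  | succ i ih => rw [finrank_Est_succ (by omega), ih (by omega)]

theorem uniq2 (hx : ∀ k ∈ J, Asc x k.val) (hp : p ∈ parabolic F J)
    (hr : ∀ i j, i ≤ m + 1 → j ≤ m + 1 → r (x * p) i j = r x i j) :
    ∀ i, i ≤ m + 1 → V (x * p) i = V x i := by
  intro i
  induction i with
  | zero => intro _; rw [V_zero, V_zero]
  | succ i ih =>
    intro hi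
    by_cases h1 : Free J (i + 1)
    swap
    · exact V_mul_parabolic x hp h1
    obtain ⟨k, hk, hk'⟩ := h1
    obtain rfl : i = k.val := by omega
    have hV := ih (by omega)
    -- the first jump
    have hex : ∃ j, j ≤ m + 1 ∧ r x k.val j < r x (k.val + 1) j := by
      refine ⟨m + 1, le_rfl, ?_⟩
      unfold r
      rw [Est_top le_rfl, inf_top_eq, inf_top_eq, finrank_V, finrank_V, finrank_Est (by omega),
        finrank_Est (by omega)]
      omega
    classical
    let w := Nat.find hex
    have hw := Nat.find_spec hex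
    change w ≤ m + 1 ∧ r x k.val w < r x (k.val + 1) w at hw
    have hw0 : w ≠ 0 := by
      intro h0
      have h2 := hw.2
      rw [h0] at h2
      unfold r at h2
      rw [Est_zero, inf_bot_eq, inf_bot_eq] at h2
      omega
    obtain ⟨j, hj⟩ : ∃ j, w = j + 1 := ⟨w - 1, by omega⟩
    have hjmin : ¬ (j ≤ m + 1 ∧ r x k.val j < r x (k.val + 1) j) :=
      Nat.find_min hex (by change j < w; omega)
    have h3 : r x (k.val + 1) j = r x k.val j := by
      have := r_mono_left x (Nat.le_succ k.val) j
      have h4 : ¬ r x k.val j < r x (k.val + 1) j := fun h => hjmin ⟨by omega, h⟩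
      simp only [Nat.succ_eq_add_one] at this
      omega
    have h4 := hx k hk j (by omega)
    have h5 := r_succ_right x (k.val + 2) j
    have h6 := r_mono_right x k.val (Nat.le_succ j)
    have h7 := r_mono_left x (Nat.le_succ (k.val + 1)) w
    have h8 : r x (k.val + 1 + 1) w = r x (k.val + 1) w := by
      have h9 : r x (k.val + 1 + 1) w = r x (k.val + 2) w := rfl
      have h10 := hw.2
      simp only [Nat.succ_eq_add_one] at h7 h6
      rw [hj] at h7 h9 h10 ⊢
      omega
    have h9 := uniq1 hx hp hr w hw.1 m (k.val + 1) (by omega) (by have := k.2; omega) h8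
    -- both are the sum of `V x k` and the common intersection
    have key : ∀ g : GL (Fin (m + 1)) F, V g k.val = V x k.val →
        V g (k.val + 1) ⊓ Est F m w = V x (k.val + 1) ⊓ Est F m w →
        V g (k.val + 1) = V x k.val ⊔ (V x (k.val + 1) ⊓ Est F m w) := by
      intro g hg1 hg2
      symm
      apply Submodule.eq_of_le_of_finrank_le
      · apply sup_le
        · rw [← hg1]
          exact V_mono g (Nat.le_succ _)
        · rw [← hg2]
          exact inf_le_left
      · have h10 := finrank_V_succ_le g k.val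
        rw [hg1] at h10
        have h11 : V x k.val < V x k.val ⊔ (V x (k.val + 1) ⊓ Est F m w) := by
          refine lt_of_le_of_ne le_sup_left fun heq => ?_
          have h12 : V x (k.val + 1) ⊓ Est F m w ≤ V x k.val ⊓ Est F m w :=
            le_inf (heq ▸ le_sup_right) inf_le_right
          have h13 := Submodule.finrank_mono h12
          have h14 := hw.2
          unfold r at h14
          omega
        have h12 := Submodule.finrank_lt_finrank_of_lt h11
        omega
    exact (key (x * p) hV h9).trans (key x rfl rfl).symm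

/-- Ascents at all letters of `J` imply that the maximum on `x P_J` is attained on `x B` only. -/
theorem mem_borel (hx : ∀ k ∈ J, Asc x k.val) (hp : p ∈ parabolic F J) (h : mu (x * p) = mu x) :
    p ∈ parabolic F (∅ : Finset (Fin m)) := by
  have h1 := mem_borel_of_V_eq (x := x) (y := x * p) fun i hi =>
    (uniq2 hx hp (fun i j hi hj => r_eq_of_mu_eq hx hp h i j hi hj) i hi).symm
  rwa [inv_mul_cancel_left] at h1

end Main

section Panel

/-- The elementary transformation exchanging the `k`-th and `k+1`-st coordinate and adding `t` times. -/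
noncomputable def phi (k : Fin m) (t : F) : (Fin (m + 1) → F) ≃ₗ[F] (Fin (m + 1) → F) where
  toFun v := fun i => if i = k.castSucc then v k.succ + t * v k.castSucc else
    if i = k.succ then v k.castSucc else v i
  invFun w := fun i => if i = k.castSucc then w k.succ else
    if i = k.succ then w k.castSucc - t * w k.succ else w i
  map_add' v w := by
    funext i
    simp only [Pi.add_apply]
    split_ifs <;> ring
  map_smul' c v := by
    funext i
    simp only [Pi.smul_apply, smul_eq_mul, RingHom.id_apply]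
    split_ifs <;> ring
  left_inv v := by
    have hne : k.succ ≠ k.castSucc := (Fin.castSucc_lt_succ (i := k)).ne'
    funext i
    by_cases h1 : i = k.castSucc
    · subst h1
      simp [hne]
    · by_cases h2 : i = k.succ
      · subst h2
        simp [hne]
      · simp [h1, h2]
  right_inv w := by
    have hne : k.succ ≠ k.castSucc := (Fin.castSucc_lt_succ (i := k)).ne'
    funext i
    by_cases h1 : i = k.castSucc
    · subst h1
      simp [hne]
    · by_cases h2 : i = k.succ
      · subst h2
        simp [hne]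
      · simp [h1, h2]

theorem phi_apply (k : Fin m) (t : F) (v : Fin (m + 1) → F) (i : Fin (m + 1)) :
    phi k t v i = if i = k.castSucc then v k.succ + t * v k.castSucc else
      if i = k.succ then v k.castSucc else v i := rfl

theorem phi_symm_apply (k : Fin m) (t : F) (v : Fin (m + 1) → F) (i : Fin (m + 1)) :
    (phi k t).symm v i = if i = k.castSucc then v k.succ else
      if i = k.succ then v k.castSucc - t * v k.succ else v i := rfl

/-- The corresponding matrix. -/
noncomputable def pm (k : Fin m) (t : F) : GL (Fin (m + 1)) F where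
  val := LinearMap.toMatrix' (phi k t).toLinearMap
  inv := LinearMap.toMatrix' (phi k t).symm.toLinearMap
  val_inv := by
    rw [← LinearMap.toMatrix'_comp]
    have : (phi k t).toLinearMap ∘ₗ (phi k t).symm.toLinearMap = LinearMap.id := by
      ext1 v
      simp
    rw [this, LinearMap.toMatrix'_id]
  inv_val := by
    rw [← LinearMap.toMatrix'_comp]
    have : (phi k t).symm.toLinearMap ∘ₗ (phi k t).toLinearMap = LinearMap.id := by
      ext1 v
      simp
    rw [this, LinearMap.toMatrix'_id]

theorem act_pm (k : Fin m) (t : F) : act (pm k t) = (phi k t).toLinearMap := by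
  have h : act (pm k t) = Matrix.toLin' (LinearMap.toMatrix' (phi k t).toLinearMap) := by
    rw [act, ← Matrix.toLin'_apply']
    rfl
  rw [h, Matrix.toLin'_toMatrix']

theorem pm_mem (k : Fin m) (t : F) {J : Finset (Fin m)} (hk : k ∈ J) : pm k t ∈ parabolic F J := by
  rw [mem_parabolic]
  intro i j hij
  have hji : j < i := by
    by_contra h1
    push Not at h1
    exact absurd (blockOf_mono J h1) (not_le.mpr hij)
  rw [← act_apply_single, act_pm]
  change phi k t (Pi.single j 1) i = 0
  rw [phi_apply]
  have hcs : k.castSucc < k.succ := Fin.castSucc_lt_succ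
  have hval : (k.castSucc : Fin (m + 1)).val = k.val := rfl
  have hval' : (k.succ : Fin (m + 1)).val = k.val + 1 := rfl
  split_ifs with h1 h2
  · subst h1
    have h3 : j ≠ k.succ := fun h => by subst h; exact absurd hji (not_lt.mpr hcs.le)
    have h4 : j ≠ k.castSucc := fun h => by subst h; exact absurd hji (lt_irrefl _)
    rw [Pi.single_eq_of_ne h3.symm, Pi.single_eq_of_ne h4.symm, mul_zero, add_zero]
  · subst h2
    by_cases h4 : j = k.castSucc
    · exfalso
      subst h4
      apply absurd hij
      rw [not_lt]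
      apply Finset.card_le_card
      intro l hl
      rw [Finset.mem_filter] at hl ⊢
      refine ⟨hl.1, ?_, hl.2.2⟩
      have h5 := hl.2.1
      rw [hval'] at h5
      rw [hval]
      have h6 : l ≠ k := fun h => hl.2.2 (h ▸ hk)
      have h7 : l.val ≠ k.val := fun h => h6 (Fin.ext h)
      omega
    · rw [Pi.single_eq_of_ne (Ne.symm h4)]
  · rw [Pi.single_eq_of_ne hji.ne']

/-- If there is no ascent at `k`, the sum `mu` is larger somewhere on the panel `x P_k`. -/
theorem exists_gt_of_not_asc (x : GL (Fin (m + 1)) F) (k : Fin m) (hx : ¬ Asc x k.val) :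
    ∃ p : GL (Fin (m + 1)) F, (∀ J : Finset (Fin m), k ∈ J → p ∈ parabolic F J) ∧ mu x < mu (x * p) := by
  unfold Asc at hx
  push Not at hx
  obtain ⟨j, hj, hlt⟩ := hx
  have h1 := r_succ_left x k.val j
  have h2 := r_succ_left x (k.val + 1) j
  have h3 := r_mono_left x (Nat.le_succ k.val) j
  have h4 : r x (k.val + 1 + 1) j = r x (k.val + 2) j := rfl
  simp only [Nat.succ_eq_add_one] at h3
  have h5 : r x (k.val + 1) j = r x k.val j := by omega
  have h6 : r x (k.val + 2) j = r x (k.val + 1) j + 1 := by omega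
  -- a vector
  obtain ⟨v, hv2, hv1⟩ : ∃ v ∈ V x (k.val + 2) ⊓ Est F m j, v ∉ V x (k.val + 1) := by
    by_contra hcon
    push Not at hcon
    have h7 : V x (k.val + 2) ⊓ Est F m j ≤ V x (k.val + 1) ⊓ Est F m j :=
      fun w hw => ⟨hcon w hw, hw.2⟩
    have h8 := Submodule.finrank_mono h7
    unfold r at h6
    omega
  obtain ⟨⟨w, hw, rfl⟩, hvE⟩ := hv2
  have hws : w k.succ ≠ 0 := by
    intro h0
    apply hv1
    refine ⟨w, ?_, rfl⟩
    intro l hl
    by_cases h7 : l.val = k.val + 1
    · have : l = k.succ := Fin.ext h7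
      rw [this, h0]
    · exact hw l (by omega)
  let t := w k.castSucc / w k.succ
  have hk : k.val < m := k.2
  have hfree : ∀ i, i ≠ k.val + 1 → ¬ Free ({k} : Finset (Fin m)) i := by
    rintro i hi ⟨l, hl, hl'⟩
    rw [Finset.mem_singleton] at hl
    subst hl
    exact hi hl'
  have hpmem : pm k t ∈ parabolic F ({k} : Finset (Fin m)) := pm_mem k t (Finset.mem_singleton_self k)
  have hr : ∀ i, i ≠ k.val + 1 → ∀ j, r (x * pm k t) i j = r x i j := fun i hi j =>
    r_mul_parabolic x hpmem (hfree i hi) j
  have hvV : act x w ∈ V (x * pm k t) (k.val + 1) := by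
    rw [V_mul]
    refine ⟨w, ?_, rfl⟩
    refine ⟨(phi k t).symm w, ?_, ?_⟩
    · intro l hl
      rw [phi_symm_apply]
      split_ifs with h7 h8
      · exfalso
        rw [h7] at hl
        change k.val + 1 ≤ k.val at hl
        omega
      · change w k.castSucc - w k.castSucc / w k.succ * w k.succ = 0
        rw [div_mul_cancel₀ _ hws, sub_self]
      · apply hw
        have h9 : l.val ≠ k.val + 1 := fun h => h8 (Fin.ext h)
        omega
    · rw [act_pm]
      exact (phi k t).apply_symm_apply w
  have hvk : act x w ∉ V x k.val := fun h => hv1 (V_mono x (Nat.le_succ _) h)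
  have hVk : V (x * pm k t) k.val = V x k.val := V_mul_parabolic x hpmem (hfree _ (by omega))
  -- comparison at `k + 1`
  have hge : ∀ j', r x (k.val + 1) j' ≤ r (x * pm k t) (k.val + 1) j' ∧
      (j ≤ j' → r x k.val j' + 1 ≤ r (x * pm k t) (k.val + 1) j') := by
    intro j'
    have hb : j ≤ j' → r x k.val j' + 1 ≤ r (x * pm k t) (k.val + 1) j' := by
      intro hjj
      have h7 : V x k.val ⊓ Est F m j' < V (x * pm k t) (k.val + 1) ⊓ Est F m j' := by
        refine lt_of_le_of_ne (inf_le_inf_right _ ?_) fun heq => ?_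
        · rw [← hVk]
          exact V_mono _ (Nat.le_succ _)
        · have h8 : act x w ∈ V (x * pm k t) (k.val + 1) ⊓ Est F m j' := ⟨hvV, Est_mono hjj hvE⟩
          rw [← heq] at h8
          exact hvk h8.1
      exact Submodule.finrank_lt_finrank_of_lt h7
    refine ⟨?_, hb⟩
    by_cases hjj : j ≤ j'
    · have h7 := hb hjj
      have h8 := r_succ_left x k.val j'
      omega
    · have h7 : V x (k.val + 1) ⊓ Est F m j' ≤ V x k.val ⊓ Est F m j' := by
        have h8 : V x k.val ⊓ Est F m j = V x (k.val + 1) ⊓ Est F m j :=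
          Submodule.eq_of_le_of_finrank_eq (inf_le_inf_right _ (V_mono x (Nat.le_succ _))) h5.symm
        intro u hu
        refine ⟨?_, hu.2⟩
        have h9 : u ∈ V x (k.val + 1) ⊓ Est F m j := ⟨hu.1, Est_mono (by omega) hu.2⟩
        rw [← h8] at h9
        exact h9.1
      have h8 := Submodule.finrank_mono h7
      have h9 := hr k.val (by omega) j'
      have h10 := r_mono_left (x * pm k t) (Nat.le_succ k.val) j'
      simp only [Nat.succ_eq_add_one] at h10
      unfold r at h9 h10 ⊢
      omega
  refine ⟨pm k t, fun J hJ => pm_mem k t hJ, ?_⟩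
  apply Finset.sum_lt_sum
  · intro i _
    apply Finset.sum_le_sum
    intro j' _
    by_cases hi : i = k.val + 1
    · subst hi
      exact (hge j').1
    · exact (hr i hi j').ge
  · refine ⟨k.val + 1, Finset.mem_range.2 (by omega), ?_⟩
    apply Finset.sum_lt_sum
    · intro j' _
      exact (hge j').1
    · refine ⟨j, Finset.mem_range.2 (by omega), ?_⟩
      have h7 := (hge j).2 le_rfl
      omega

end Panel

end K880.Flags
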